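import Cfsg.Agent.H543.PiBS.Gen
import Cfsg.Agent.H841.PiBS.Desc
import Cfsg.Agent.H841.PiBS.M24
import Cfsg.Agent.NotCT.Orders
import Cfsg.Agent.H337.JankoOfIso
import Cfsg.Agent.S1703
import Cfsg.Agent.S5566
import Cfsg.Agent.S5567
import Cfsg.Agent.S5582

/-!
# S3876: the row `J4` (helper171)

`row_J4_of` : `2, 3 ∈ π` and `D_π` imply that `J4` is a `π`-group, from the row `M24`.
-/

set_option autoImplicit false

namespace Cfsg.Agent.H171.PiBS

open Subgroup Cfsg Cfsg.Agent.H543.PiBS Cfsg.Agent.H841.PiBS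

universe u

theorem mem_prime_of_pgroup {G : Type*} [Group G] [Finite G] {π : Set ℕ} {p : ℕ} [hp : Fact p.Prime] (h : p ∈ π)
    {T : Subgroup G} (hT : IsPGroup p ↥T) : IsPiSubgroup π T := by
  intro q hq hd
  obtain ⟨n, hn⟩ := hT.exists_card_eq
  rw [hn] at hd
  rw [(Nat.prime_dvd_prime_iff_eq hq hp.out).1 (hq.dvd_of_dvd_pow hd)]
  exact h

/-- the row `J4` in the model -/
theorem jfour_model {S : Type u} [Group S] [Finite S] [IsSimpleGroup S] (hna : ¬ IsMulCommutative S)
    (hJ : IsOfJankoFourType S) (hcS : 11 ^ 3 ∣ Nat.card S) {π : Set ℕ} (h2 : 2 ∈ π)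
    (h24 : DT π ↥Cfsg.M24 → PiGrp π ↥Cfsg.M24) (h24c : Nat.card ↥Cfsg.M24 = 244823040) (hD : DC π S) : PiGrp π S := by
  have hF : Fact (Nat.Prime 2) := ⟨Nat.prime_two⟩
  obtain ⟨z, hz⟩ := id hJ
  obtain ⟨T⟩ : Nonempty (Sylow 2 S) := inferInstance
  obtain ⟨V, ⟨hVT, hV, hVc⟩, hun⟩ := S5566.result hna hJ T
  obtain ⟨-, K, hKN, hKV, hKVN, hK⟩ := S5567.result hna hJ V hV hVc
  obtain ⟨-, hco, -⟩ := S5582.result hna z hz
  have hcoN := hco V hV hVc
  set N := normalizer (V : Set S) with hN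
  -- `N(T) ≤ N`
  have hNT : normalizer ((T : Subgroup S) : Set S) ≤ N := by
    intro g hg
    have h1 : V.map (MulAut.conj g).toMonoidHom = V := by
      apply hun
      refine ⟨?_, ?_, ?_⟩
      · rintro _ ⟨v, hv, rfl⟩
        exact (mem_normalizer_iff.1 hg v).1 (hVT hv)
      · refine ⟨⟨⟨?_⟩⟩, ?_⟩
        · rintro ⟨_, v, hv, rfl⟩ ⟨_, w, hw, rfl⟩
          have hcomm : v * w = w * v := by
            have := hV.1
            exact congrArg Subtype.val (this.is_comm.comm (⟨v, hv⟩ : V) ⟨w, hw⟩)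
          apply Subtype.ext
          show (MulAut.conj g).toMonoidHom v * (MulAut.conj g).toMonoidHom w =
            (MulAut.conj g).toMonoidHom w * (MulAut.conj g).toMonoidHom v
          rw [← map_mul, ← map_mul, hcomm]
        · rintro _ ⟨v, hv, rfl⟩
          rw [← map_pow, hV.2 v hv, map_one]
      · rw [H841.PiBS.card_map_conj, hVc]
    rw [hN, mem_normalizer_iff]
    intro v
    constructor
    · intro hv
      have h2 : g * v * g⁻¹ ∈ V.map (MulAut.conj g).toMonoidHom := conj_mem_map hv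
      rwa [h1] at h2
    · intro hv
      rw [← h1, mem_map_conj] at hv
      have e : g⁻¹ * (g * v * g⁻¹) * g = v := by group
      rwa [e] at hv
  have hTN : (T : Subgroup S) ≤ N := le_normalizer.trans hNT
  have hDT : DT π S := DT.of_dPi hD.isDPi h2
  have hDN : DT π ↥N := hDT.descend T hTN hNT
  have hVN : V ≤ N := le_normalizer
  have hVn : (V.subgroupOf N).Normal := by
    rw [hN]; infer_instance
  have hVp : IsPGroup 2 ↥(V.subgroupOf N) := IsPGroup.of_card (n := 11) (by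
    rw [Nat.card_congr (subgroupOfEquivOfLe hVN).toEquiv, hVc])
  have hVpi : IsPiSubgroup π (V.subgroupOf N) := mem_prime_of_pgroup h2 hVp
  have hDq := hDN.quot (V.subgroupOf N) hVpi
  -- the quotient is `M24`
  have hquo : Nonempty ((↥N ⧸ V.subgroupOf N) ≃* ↥Cfsg.M24) := by
    obtain ⟨e⟩ := hK
    have hcomp : IsComplement' (K.subgroupOf N) (V.subgroupOf N) := by
      refine isComplement'_of_disjoint_and_mul_eq_univ ?_ ?_
      · rw [disjoint_iff]
        show (K ⊓ V).subgroupOf N = ⊥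
        rw [hKV, bot_subgroupOf]
      · rw [← mul_normal, ← subgroupOf_sup hKN hVN, hKVN, subgroupOf_self]
        rfl
    exact ⟨(hcomp.QuotientMulEquiv).trans ((subgroupOfEquivOfLe hKN).trans e)⟩
  obtain ⟨e⟩ := hquo
  have h3 := h24 (hDq.map_equiv e)
  have hcN : Nat.card ↥N = 244823040 * 2 ^ 11 := by
    rw [card_eq_card_quotient_mul_card_subgroup (V.subgroupOf N), Nat.card_congr e.toEquiv, h24c,
      Nat.card_congr (subgroupOfEquivOfLe hVN).toEquiv, hVc]
  have hNpi : IsPiSubgroup π N := by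
    intro p hp hd
    rw [hcN, hp.dvd_mul] at hd
    rcases hd with hd | hd
    · exact h3 p hp (by rw [h24c]; exact hd)
    · rw [(Nat.prime_dvd_prime_iff_eq hp Nat.prime_two).1 (hp.dvd_of_dvd_pow hd)]
      exact h2
  obtain ⟨H, hH, hNH⟩ := hD.d N hNpi
  rcases hcoN.le_iff.1 hNH with h4 | h4
  · -- `H = ⊤`
    subst h4
    intro p hp hd
    exact hH.1 p hp (by rwa [card_top])
  · exfalso
    subst h4
    refine hH.2 11 (by norm_num) (h3 11 (by norm_num) (by rw [h24c]; norm_num)) ?_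
    have h5 := N.card_mul_index
    rw [hcN] at h5
    have h6 : 11 ^ 3 ∣ (244823040 * 2 ^ 11) * N.index := by rw [h5]; exact hcS
    have h7 : 11 * 11 ∣ (22256640 * 2 ^ 11) * N.index := by
      have h8 : 11 * (11 * 11) ∣ 11 * ((22256640 * 2 ^ 11) * N.index) := by
        convert h6 using 1 <;> ring
      exact Nat.dvd_of_mul_dvd_mul_left (by norm_num) h8
    exact (Nat.Coprime.dvd_of_dvd_mul_left (by norm_num) ((Dvd.intro _ rfl : 11 ∣ 11 * 11).trans h7))

/-- **the row `J4`** from the row `M24` -/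
theorem row_J4_of {S : Type u} [Group S] [Finite S] (h : Cfsg.Spor.IsoJ4 S) {π : Set ℕ} (h2 : 2 ∈ π)
    (h24 : DT π ↥Cfsg.M24 → PiGrp π ↥Cfsg.M24) (hD : DC π S) : PiGrp π S := by
  have hc := NotCT.Orders.j4 h
  have hs : IsSimpleGroup S := by
    obtain ⟨e⟩ := id h
    have := Cfsg.Agent.S1703.result.1
    exact e.isSimpleGroup
  refine jfour_model ?_ (H337.isOfJankoFourType_of_isoJ4 h) (by rw [hc]; norm_num) h2 h24 ?_ hD
  · intro hcm
    let _ : CommGroup S := { (inferInstance : Group S) with mul_comm := fun a b => hcm.is_comm.comm a b }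
    have h3 : (Nat.card S).Prime := IsSimpleGroup.prime_card
    rw [hc] at h3
    revert h3
    norm_num
  · exact NotCT.Orders.m24 ⟨MulEquiv.refl _⟩

/-- **the row `J4`** -/
theorem row_J4 {S : Type u} [Group S] [Finite S] (h : Cfsg.Spor.IsoJ4 S) {π : Set ℕ} (h2 : 2 ∈ π) (h3 : 3 ∈ π)
    (hD : DC π S) : PiGrp π S :=
  row_J4_of h h2 (fun hd p hp hpd => H841.PiBS.M24.good h2 h3 hd p hp hpd) hD

end Cfsg.Agent.H171.PiBS
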